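import Cfsg.Agent.H933.TitsSep
import Cfsg.Agent.H488.PBRow.TitsThree
import Cfsg.Agent.H867.TitsOut
import Cfsg.Agent.H384.Cyc.Tools
import Cfsg.Agent.H242.TwoCyc.TwFTwo
import Cfsg.Agent.H242.TwoCyc.TitsIdx

/-!
# The row of the Tits group in S3507 (helper242)

* `orderOf_le` : elements of the Tits group have order at most 16;
* `index_lt` : proper subgroups have index bigger than 64;
* `sm_tits`, `ord_tits`.
-/

set_option autoImplicit false

universe u

namespace Cfsg.Agent.H242.TwoCyc.Tits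

open Subgroup Cfsg Cfsg.Lie Cfsg.Agent.H235.TitsIdx Cfsg.Agent.H235.TitsIdx.Facts Cfsg.Agent.H384.Cyc
open Cfsg.Agent.KFacts.TwF4 Cfsg.Agent.KFacts.TwF4.Full Cfsg.Agent.KFacts.TwF4.Arc
open Cfsg.Agent.KFacts.TwF4.Inv Cfsg.Agent.KFacts.TwF4.SylU
open Cfsg.Agent.SplitTwo Cfsg.Agent.SplitTwo.ZS Cfsg.Agent.TitsThree.RankTwoZ
open Cfsg.Agent.SplitTwo.RootSysZ Cfsg.Agent.H248.Ovg Cfsg.Agent.H248.TwF4Over

/-! ### 2-elements -/

theorem pow_sixteen_full {F : Type*} [Field F] [Finite F] {σ : F →+* F} {G : Type u} [Group G] [Finite G]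
    (S : Full σ G) {N : Subgroup G} (T : Two F N) (hR : S.R.p = 2) (hc : Nat.card G = 35942400) {x : G} {k : ℕ}
    (hx : x ^ 2 ^ k = 1) : x ^ 16 = 1 := by
  have hfact : Fact (Nat.Prime 2) := ⟨Nat.prime_two⟩
  have hU2 : IsPGroup 2 (J S.XZ 1 8) :=
    isPGroup_J S.zsys8 (two_X S hR) 8 1 8 (by norm_num) (by norm_num)
  have hcU : Nat.card (J S.XZ 1 8) = 2 ^ 12 := two_card_U S T
  have hi : ¬ 2 ∣ (J S.XZ 1 8).index := by
    have h1 := (J S.XZ 1 8).card_mul_index
    rw [hcU, hc] at h1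
    have h2 : (J S.XZ 1 8).index = 8775 := by omega
    rw [h2]; norm_num
  exact TwFTwo.pow_sixteen S ⟨hU2.toSylow hi, rfl⟩ hx

theorem pow_sixteen {X : Type u} [Group X] (h : IsoTits X) {x : X} {k : ℕ} (hx : x ^ 2 ^ k = 1) : x ^ 16 = 1 := by
  obtain ⟨e⟩ := h
  obtain ⟨hidx, hs, hna, hcard⟩ := Cfsg.Agent.S1074.result
  have hK : Fintype.card (ZMod 2) = 2 ^ (2 * 0 + 1) := by rw [ZMod.card]; rfl
  obtain ⟨φ, hφ⟩ := Cfsg.Agent.ChevalleyStructure.TwF4.TwistedFix.exists_rln hK
  obtain ⟨S, hS⟩ : ∃ S : Full φ ↥(twistedF4 (ZMod 2) 1), S.R.p = 2 := by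
    have h0 : ∃ S : Full φ ↥(twistedF4 (ZMod 2) (2 ^ 0)), S.R.p = 2 :=
      ⟨Cfsg.Agent.KFacts.TwF4.Inst.full hK hφ, rfl⟩
    rw [pow_zero] at h0
    exact h0
  have h01 : ∀ x : ZMod 2, x = 0 ∨ x = 1 := by
    intro x
    fin_cases x
    · exact Or.inl rfl
    · exact Or.inr rfl
  have T : Two (ZMod 2) (commutator ↥(twistedF4 (ZMod 2) 1)) := by
    refine ⟨h01, le_rfl, ?_⟩
    intro h1
    rw [h1, Subgroup.index_top] at hidx
    norm_num at hidx
  have hfin : Finite ↥(twistedF4 (ZMod 2) 1) := inferInstance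
  have hfin0 : Finite (ZMod 2) := inferInstance
  have hc : Nat.card ↥(twistedF4 (ZMod 2) 1) = 35942400 := by
    have h1 : Nat.card TitsGroup * (commutator ↥(twistedF4 (ZMod 2) 1)).index = Nat.card ↥(twistedF4 (ZMod 2) 1) :=
      (commutator ↥(twistedF4 (ZMod 2) 1)).card_mul_index
    rw [hidx, hcard] at h1
    omega
  have h1 : ((e x : TitsGroup) : ↥(twistedF4 (ZMod 2) 1)) ^ 2 ^ k = 1 := by
    rw [← Subgroup.coe_pow, ← map_pow, hx, map_one]
    rfl
  have h2 := pow_sixteen_full S T hS hc h1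
  apply e.injective
  rw [map_pow, map_one]
  exact Subtype.ext h2

/-! ### elements of odd order -/

section fac

variable {G : Type u} [Group G] [Finite G] (F : Facts G)

include F in
/-- elements of order divisible by 13 -/
theorem thirteen {x : G} (h : 13 ∣ orderOf x) : orderOf x ≤ 13 := by
  have f13 : Fact (Nat.Prime 13) := ⟨by norm_num⟩
  obtain ⟨P', hP'⟩ := H933.TitsSep.exists_thirteen F
  obtain ⟨D⟩ := F.dat
  obtain ⟨P, hP⟩ := F.exists_sylow_x D
  have hcN : Nat.card (normalizer ((P : Subgroup G) : Set G)) = 78 := by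
    have h1 : Nat.card (Sylow 13 G) = (normalizer ((P' : Subgroup G) : Set G)).index := P'.card_eq_index_normalizer
    have h2 : Nat.card (Sylow 13 G) = (normalizer ((P : Subgroup G) : Set G)).index := P.card_eq_index_normalizer
    have h3 := (normalizer ((P' : Subgroup G) : Set G)).card_mul_index
    have h4 := (normalizer ((P : Subgroup G) : Set G)).card_mul_index
    rw [← h1] at h3
    rw [← h2, ← h3, hP'] at h4
    exact Nat.eq_of_mul_eq_mul_right (Nat.card_pos) h4
  set N := normalizer ((P : Subgroup G) : Set G) with hN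
  set C := centralizer ((P : Subgroup G) : Set G) with hC
  have hx := order_x D
  have hxP : D.x ∈ (P : Subgroup G) := by rw [hP]; exact mem_zpowers _
  -- the order of `C`
  have hCN : C ≤ N := Subgroup.centralizer_le_normalizer _
  have hCd : Nat.card C ∣ 78 := by rw [← hcN]; exact Subgroup.card_dvd_of_le hCN
  have hC2 : ¬ 2 ∣ Nat.card C := by
    intro h
    have f2 : Fact (Nat.Prime 2) := ⟨by norm_num⟩
    obtain ⟨t, ht⟩ := exists_prime_orderOf_dvd_card' (G := C) 2 h
    have h1 := mem_centralizer_iff.1 t.2 D.x hxP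
    exact F.na D.x t hx (by rw [Subgroup.orderOf_coe, ht]) h1
  have htN : D.t ∈ N := TitsIdx.t_mem D hP
  have htC : D.t ∉ C := by
    intro h
    have h1 := mem_centralizer_iff.1 h D.x hxP
    have h2 := D.txt
    rw [← h1, mul_inv_cancel_right] at h2
    have h3 : D.x ^ 2 = 1 := by
      have h4 : D.x * 1 = D.x * D.x ^ 2 := by rw [← pow_succ', mul_one]; exact h2
      exact (mul_left_cancel h4).symm
    have h4 := orderOf_dvd_of_pow_eq_one h3
    rw [hx] at h4
    revert h4; norm_num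
  have hCn : (C.subgroupOf N).Normal := by
    constructor
    intro c hc g
    rw [mem_subgroupOf] at hc ⊢
    rw [hC, mem_centralizer_iff] at hc ⊢
    intro y hy
    have h1 : (g : G)⁻¹ * y * g ∈ (P : Subgroup G) := (mem_normalizer_iff''.1 g.2 y).1 hy
    have h2 := hc _ h1
    show y * ((g : G) * c * (g : G)⁻¹) = (g : G) * c * (g : G)⁻¹ * y
    calc y * ((g : G) * c * (g : G)⁻¹) = g * (((g : G)⁻¹ * y * g) * c) * (g : G)⁻¹ := by group
      _ = g * (c * ((g : G)⁻¹ * y * g)) * (g : G)⁻¹ := by rw [h2]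
      _ = _ := by group
  have hC39 : Nat.card C ≠ 39 := by
    intro h39
    have h1 : (C.subgroupOf N).index = 2 := by
      have h2 := (C.subgroupOf N).card_mul_index
      have h3 : Nat.card (C.subgroupOf N) = Nat.card C := Nat.card_congr (Subgroup.subgroupOfEquivOfLe hCN).toEquiv
      rw [h3, h39, hcN] at h2
      omega
    have h2 : (⟨D.t, htN⟩ : N) ^ 2 ∈ C.subgroupOf N := by
      have h3 := Subgroup.pow_index_mem (C.subgroupOf N) (⟨D.t, htN⟩ : N)
      rwa [h1] at h3
    have h3 : D.t ^ 2 ∈ C := h2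
    apply htC
    have h4 : D.t = D.t ^ 2 * D.t ^ 2 := by
      rw [← pow_add, show 2 + 2 = 3 + 1 by norm_num, pow_succ, D.t3, one_mul]
    rw [h4]
    exact mul_mem h3 h3
  have hC13 : Nat.card C ∣ 13 := by
    have h1 : Nat.card C ∈ (Nat.divisors 78).filter (fun m => m % 2 ≠ 0 ∧ m ≠ 39) := by
      rw [Finset.mem_filter, Nat.mem_divisors]
      refine ⟨⟨hCd, by norm_num⟩, ?_, hC39⟩
      intro h
      exact hC2 (Nat.dvd_of_mod_eq_zero h)
    have h2 : (Nat.divisors 78).filter (fun m => m % 2 ≠ 0 ∧ m ≠ 39) = {1, 3, 13} := by decide +kernel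
    rw [h2] at h1
    simp only [Finset.mem_insert, Finset.mem_singleton] at h1
    have h3 : 13 ∣ Nat.card C := by
      have h4 : D.x ∈ C := by
        rw [hC, mem_centralizer_iff]
        intro y hy
        have hy' : y ∈ (P : Subgroup G) := hy
        rw [hP] at hy'
        obtain ⟨k, rfl⟩ := mem_zpowers_iff.1 hy'
        exact ((Commute.refl D.x).zpow_left k).eq
      have h5 := Subgroup.orderOf_dvd_natCard _ h4
      rwa [hx] at h5
    rcases h1 with h1 | h1 | h1
    · rw [h1] at h3; revert h3; norm_num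
    · rw [h1] at h3; revert h3; norm_num
    · rw [h1]
  -- the element of order 13
  set y := x ^ (orderOf x / 13) with hy
  have hyo : orderOf y = 13 := by
    have h0 : 0 < orderOf x := orderOf_pos x
    rw [hy, orderOf_pow_of_dvd (Nat.div_pos (Nat.le_of_dvd h0 h) (by norm_num)).ne' (Nat.div_dvd_of_dvd h)]
    exact Nat.div_div_self h h0.ne'
  have hyP : IsPGroup 13 (zpowers y) := IsPGroup.of_card (n := 1) (by rw [Nat.card_zpowers, hyo, pow_one])
  obtain ⟨Q, hQ⟩ := hyP.exists_le_sylow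
  obtain ⟨g, hg⟩ := MulAction.exists_smul_eq G Q P
  have h1 : g * y * g⁻¹ ∈ (P : Subgroup G) := by
    rw [← hg]
    exact Subgroup.smul_mem_pointwise_smul y (MulAut.conj g) _ (hQ (mem_zpowers y))
  have hcP : Nat.card (P : Subgroup G) = 13 := by rw [hP, Nat.card_zpowers, hx]
  have h2 : zpowers (g * y * g⁻¹) = (P : Subgroup G) := by
    apply Subgroup.eq_of_le_of_card_ge
    · rw [zpowers_le]; exact h1
    · rw [hcP, Nat.card_zpowers]
      have h3 : orderOf (g * y * g⁻¹) = orderOf y :=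
        orderOf_injective (MulAut.conj g).toMonoidHom (MulAut.conj g).injective y
      rw [h3, hyo]
  have h3 : g * x * g⁻¹ ∈ C := by
    rw [hC, mem_centralizer_iff, ← h2]
    intro z hz
    obtain ⟨k, rfl⟩ := mem_zpowers_iff.1 hz
    have h4 : Commute (g * y * g⁻¹) (g * x * g⁻¹) := by
      have h5 : Commute y x := (Commute.refl x).pow_left _
      show g * y * g⁻¹ * (g * x * g⁻¹) = g * x * g⁻¹ * (g * y * g⁻¹)
      calc g * y * g⁻¹ * (g * x * g⁻¹) = g * (y * x) * g⁻¹ := by group
        _ = g * (x * y) * g⁻¹ := by rw [h5.eq]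
        _ = _ := by group
    exact (h4.zpow_left k).eq
  have h4 := (Subgroup.orderOf_dvd_natCard _ h3).trans hC13
  have h5 : orderOf (g * x * g⁻¹) = orderOf x :=
    orderOf_injective (MulAut.conj g).toMonoidHom (MulAut.conj g).injective x
  rw [h5] at h4
  exact Nat.le_of_dvd (by norm_num) h4

include F in
/-- elements of order divisible by 5 -/
theorem five {x : G} (h : 5 ∣ orderOf x) : orderOf x ≤ 10 := by
  have h0 : 0 < orderOf x := orderOf_pos x
  set y := x ^ (orderOf x / 5) with hy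
  have hyo : orderOf y = 5 := by
    rw [hy, orderOf_pow_of_dvd (Nat.div_pos (Nat.le_of_dvd h0 h) (by norm_num)).ne' (Nat.div_dvd_of_dvd h)]
    exact Nat.div_div_self h h0.ne'
  have h1 : x ∈ centralizer ({y} : Set G) := by
    rw [mem_centralizer_singleton_iff]
    exact ((Commute.refl x).pow_right _).eq
  have h2 := Subgroup.orderOf_dvd_natCard _ h1
  rw [F.cent y hyo] at h2
  have h25 : ¬ 25 ∣ orderOf x := by
    intro h3
    have h4 : orderOf (x ^ (orderOf x / 25)) = 25 := by
      rw [orderOf_pow_of_dvd (Nat.div_pos (Nat.le_of_dvd h0 h3) (by norm_num)).ne' (Nat.div_dvd_of_dvd h3)]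
      exact Nat.div_div_self h3 h0.ne'
    have h5 := F.exp (x ^ (orderOf x / 25)) (by
      have h6 := pow_orderOf_eq_one (x ^ (orderOf x / 25))
      rwa [h4] at h6)
    have h6 := orderOf_dvd_of_pow_eq_one h5
    rw [h4] at h6
    revert h6; norm_num
  have h3 : orderOf x ∈ (Nat.divisors 50).filter (fun m => m % 25 ≠ 0) := by
    rw [Finset.mem_filter, Nat.mem_divisors]
    exact ⟨⟨h2, by norm_num⟩, fun h => h25 (Nat.dvd_of_mod_eq_zero h)⟩
  have h4 : ∀ m ∈ (Nat.divisors 50).filter (fun m => m % 25 ≠ 0), m ≤ 10 := by decide +kernel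
  exact h4 _ h3

include F in
/-- no elements of order 9 -/
theorem not_nine {x : G} (h : 9 ∣ orderOf x) : False := by
  have f3 : Fact (Nat.Prime 3) := ⟨by norm_num⟩
  have h0 : 0 < orderOf x := orderOf_pos x
  set y := x ^ (orderOf x / 9) with hy
  have hyo : orderOf y = 9 := by
    rw [hy, orderOf_pow_of_dvd (Nat.div_pos (Nat.le_of_dvd h0 h) (by norm_num)).ne' (Nat.div_dvd_of_dvd h)]
    exact Nat.div_div_self h h0.ne'
  obtain ⟨D⟩ := F.dat
  have hp : IsPGroup 3 D.R := IsPGroup.of_card (n := 3) (by rw [D.card_R]; norm_num)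
  have hi : ¬ 3 ∣ D.R.index := by
    have h1 := D.R.card_mul_index
    rw [D.card_R, F.card] at h1
    have h2 : D.R.index = 665600 := by omega
    rw [h2]; norm_num
  have hyP : IsPGroup 3 (zpowers y) := IsPGroup.of_card (n := 2) (by rw [Nat.card_zpowers, hyo]; norm_num)
  obtain ⟨Q, hQ⟩ := hyP.exists_le_sylow
  obtain ⟨g, hg⟩ := MulAction.exists_smul_eq G Q (hp.toSylow hi)
  have h1 : g * y * g⁻¹ ∈ D.R := by
    have h2 : g * y * g⁻¹ ∈ ((hp.toSylow hi : Sylow 3 G) : Subgroup G) := by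
      rw [← hg]
      exact Subgroup.smul_mem_pointwise_smul y (MulAut.conj g) _ (hQ (mem_zpowers y))
    exact h2
  have h5 : orderOf (g * y * g⁻¹) = orderOf y :=
    orderOf_injective (MulAut.conj g).toMonoidHom (MulAut.conj g).injective y
  have hne : g * y * g⁻¹ ≠ 1 := by
    intro h2
    rw [h2, orderOf_one, hyo] at h5
    omega
  obtain ⟨c, hc⟩ := isConj_iff.1 (D.R_isConj h1 hne)
  have h6 : orderOf (c * (g * y * g⁻¹) * c⁻¹) = orderOf (g * y * g⁻¹) :=
    orderOf_injective (MulAut.conj c).toMonoidHom (MulAut.conj c).injective _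
  rw [hc, h5, hyo] at h6
  have h7 := orderOf_dvd_of_pow_eq_one D.t3
  rw [h6] at h7
  revert h7; norm_num

include F in
/-- elements of order divisible by 3 -/
theorem three (hc : ∀ y : G, orderOf y = 3 → Nat.card (centralizer ({y} : Set G)) = 108) {x : G}
    (h : 3 ∣ orderOf x) : orderOf x ≤ 12 := by
  have h0 : 0 < orderOf x := orderOf_pos x
  set y := x ^ (orderOf x / 3) with hy
  have hyo : orderOf y = 3 := by
    rw [hy, orderOf_pow_of_dvd (Nat.div_pos (Nat.le_of_dvd h0 h) (by norm_num)).ne' (Nat.div_dvd_of_dvd h)]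
    exact Nat.div_div_self h h0.ne'
  have h1 : x ∈ centralizer ({y} : Set G) := by
    rw [mem_centralizer_singleton_iff]
    exact ((Commute.refl x).pow_right _).eq
  have h2 := Subgroup.orderOf_dvd_natCard _ h1
  rw [hc y hyo] at h2
  have h3 : orderOf x ∈ (Nat.divisors 108).filter (fun m => m % 9 ≠ 0) := by
    rw [Finset.mem_filter, Nat.mem_divisors]
    exact ⟨⟨h2, by norm_num⟩, fun h => not_nine F (Nat.dvd_of_mod_eq_zero h)⟩
  have h4 : ∀ m ∈ (Nat.divisors 108).filter (fun m => m % 9 ≠ 0), m ≤ 12 := by decide +kernel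
  exact h4 _ h3

end fac

/-- **elements of the Tits group have order at most 16** -/
theorem orderOf_le {X : Type u} [Group X] [Finite X] (h : IsoTits X) (x : X) : orderOf x ≤ 16 := by
  have F := H235.TitsRow.facts h
  by_cases h13 : 13 ∣ orderOf x
  · exact (thirteen F h13).trans (by norm_num)
  by_cases h5 : 5 ∣ orderOf x
  · exact (five F h5).trans (by norm_num)
  by_cases h3 : 3 ∣ orderOf x
  · exact (three F (fun y hy => H488.PBRow.TitsThree.card_cent_three h hy) h3).trans (by norm_num)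
  have h1 : orderOf x ∣ 2 ^ 11 * (3 ^ 3 * 5 ^ 2 * 13) := by
    have h2 := orderOf_dvd_natCard x
    rw [F.card] at h2
    exact h2
  have hc : Nat.Coprime (orderOf x) (3 ^ 3 * 5 ^ 2 * 13) := by
    refine Nat.Coprime.mul_right (Nat.Coprime.mul_right ?_ ?_) ?_
    · exact Nat.Coprime.pow_right _ ((Nat.Prime.coprime_iff_not_dvd Nat.prime_three).2 h3).symm
    · exact Nat.Coprime.pow_right _ ((Nat.Prime.coprime_iff_not_dvd Nat.prime_five).2 h5).symm
    · exact ((Nat.Prime.coprime_iff_not_dvd (by norm_num)).2 h13).symm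
  obtain ⟨k, -, hk⟩ := (Nat.dvd_prime_pow Nat.prime_two).1 (hc.dvd_of_dvd_mul_right h1)
  exact orderOf_le_of_pow_eq_one (by norm_num) (pow_sixteen h (k := k) (by rw [← hk]; exact pow_orderOf_eq_one x))

/-- **proper subgroups of the Tits group have index bigger than 64** -/
theorem index_lt {X : Type u} [Group X] [Finite X] (h : IsoTits X) {H : Subgroup X} (hH : H ≠ ⊤) : 64 < H.index := by
  have F := H235.TitsRow.facts h
  have : IsSimpleGroup X := H933.TitsSep.simple_tits h
  have f13 : Fact (Nat.Prime 13) := ⟨by norm_num⟩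
  exact TitsIdx.le_index F (H933.TitsSep.exists_thirteen F) hH

/-- automorphisms of the Tits group have order at most 32 -/
theorem mo_tits {X : Type u} [Group X] [Finite X] (h : IsoTits X) : Mo X 32 := by
  have h1 := H867.TitsOut.card_out_le h
  have h2 : (MulAut.conj : X →* MulAut X).range.index ≤ 2 := h1
  have hN : (MulAut.conj : X →* MulAut X).range.Normal := by
    constructor
    rintro _ ⟨t, rfl⟩ α
    refine ⟨α t, ?_⟩
    ext g
    simp
  refine mo_of_index (c := 2) (m := 16) _ h2 ?_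
  rintro _ ⟨t, rfl⟩
  exact (Nat.le_of_dvd (orderOf_pos t) (orderOf_map_dvd _ t)).trans (orderOf_le h t)

/-- **The row of the Tits group.** -/
theorem sm_tits {X : Type u} [Group X] [Finite X] (h : IsoTits X) : Sm X :=
  ⟨32, mo_tits h, fun H hH => by have := index_lt h hH; omega⟩

theorem ord_tits {X : Type u} [Group X] [Finite X] (h : IsoTits X) : H384.Cyc.Ord X := by
  refine ⟨32, mo_tits h, ?_⟩
  have F := H235.TitsRow.facts h
  rw [F.card]
  norm_num

end Cfsg.Agent.H242.TwoCyc.Tits
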