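import Cfsg.Agent.S1072
import Cfsg.Agent.S2128
import Cfsg.Agent.H934.HeisTwF4
import Cfsg.Agent.H496.TwEight.Card
import Cfsg.Agent.H92.TorExp
import Cfsg.Agent.H493.PGF4
import Cfsg.Agent.H384.Cyc.Tools
import Cfsg.Agent.H242.TwoCyc.TwFTwo

/-!
# The row of `²F₄(q)`, `q ≥ 8`, in S3507 (helper242)

* `odd_le` : elements of odd order have order at most `(q + 1) ^ 4`;
* `even_le` : elements of even order have order at most `16 (q² + 1) (q - 1)`;
* `sm`.
-/

set_option autoImplicit false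

universe u

namespace Cfsg.Agent.H242.TwoCyc.TwF

open Subgroup Cfsg Cfsg.Lie Cfsg.Agent.H384.Cyc Cfsg.Lie.ChevalleyDatum
open Cfsg.Agent.ChevalleyStructure Cfsg.Agent.ChevalleyStructure.Elts

/-! ### odd order -/

section odd

theorem inList_F4 : InList chevF4 := by simp [InList]

/-- subgroups generated by words in root elements -/
theorem genSubgroup_le_group {D : ChevalleyDatum} (hD : InList D) {K : Type*} [Field K] (S : Set (List (ℕ × K))) :
    D.genSubgroup K S ≤ D.group K := by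
  unfold ChevalleyDatum.genSubgroup
  rw [Subgroup.closure_le]
  rintro g ⟨w, -, hg⟩
  rw [← eq_wordG_iff hD] at hg
  rw [SetLike.mem_coe, hg]
  clear hg
  induction w with
  | nil => exact one_mem _
  | cons p w ih => rw [wordG_cons]; exact mul_mem (xG_mem_group hD _ _) ih

/-- products of values of cyclotomic polynomials -/
theorem prod_le {q : ℕ} (hq : 2 ≤ q) {l : ℕ} (S : Finset ℕ) (hS : ∑ d ∈ S, Nat.totient d ≤ l) :
    0 < ∏ d ∈ S, (Polynomial.cyclotomic d ℤ).eval (q : ℤ) ∧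
      ∏ d ∈ S, (Polynomial.cyclotomic d ℤ).eval (q : ℤ) ≤ ((q : ℤ) + 1) ^ l := by
  have hq1 : (1 : ℝ) < (q : ℝ) := by exact_mod_cast hq
  have hcast : ∀ d, (((Polynomial.cyclotomic d ℤ).eval (q : ℤ) : ℤ) : ℝ) = (Polynomial.cyclotomic d ℝ).eval (q : ℝ) := by
    intro d
    rw [← Polynomial.map_cyclotomic_int d ℝ, Polynomial.eval_map, Polynomial.eval₂_at_natCast]
    rfl
  have h1 : ∀ d, 0 < (Polynomial.cyclotomic d ℤ).eval (q : ℤ) := by
    intro d
    exact Polynomial.cyclotomic_pos_and_nonneg d (q : ℤ) |>.1 (by exact_mod_cast hq)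
  have h2 : ∀ d, (Polynomial.cyclotomic d ℤ).eval (q : ℤ) ≤ ((q : ℤ) + 1) ^ Nat.totient d := by
    intro d
    have h3 := Polynomial.cyclotomic_eval_le_add_one_pow_totient hq1 d
    rw [← hcast] at h3
    exact_mod_cast h3
  refine ⟨Finset.prod_pos fun d _ => h1 d, ?_⟩
  calc ∏ d ∈ S, (Polynomial.cyclotomic d ℤ).eval (q : ℤ) ≤ ∏ d ∈ S, ((q : ℤ) + 1) ^ Nat.totient d :=
        Finset.prod_le_prod (fun d _ => (h1 d).le) fun d _ => h2 d
    _ = ((q : ℤ) + 1) ^ ∑ d ∈ S, Nat.totient d := Finset.prod_pow_eq_pow_sum _ _ _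
    _ ≤ ((q : ℤ) + 1) ^ l := pow_le_pow_right₀ (by omega) hS

variable {K : Type u} [Field K] [Fintype K] [CharP K 2]

/-- **elements of odd order** -/
theorem odd_le {e : ℕ} {x : ↥(twistedF4 K e)} (hx : (orderOf x).Coprime 2) :
    orderOf x ≤ (Fintype.card K + 1) ^ 4 := by
  have hfact : Fact (Nat.Prime 2) := ⟨Nat.prime_two⟩
  have := Cfsg.Agent.H493.PGF4.finW
  set y : ↥(chevF4.group K) := Subgroup.inclusion (genSubgroup_le_group inList_F4 _) x with hy
  have hyo : orderOf y = orderOf x :=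
    orderOf_injective _ (Subgroup.inclusion_injective (genSubgroup_le_group inList_F4 _)) x
  obtain ⟨S, h0, h1, h2⟩ := H92.TorExp.ord_untw H493.PGF4.hp CoxeterMatrix.F₄.toCoxeterSystem (F := K) (r := 2) (x := y)
    (by rw [hyo]; exact hx)
  obtain ⟨h3, h4⟩ := prod_le (q := Fintype.card K) (Fintype.one_lt_card) S h1
  rw [hyo] at h2
  have h5 := (Int.le_of_dvd h3 h2).trans h4
  exact_mod_cast h5

end odd

/-! ### even order -/

section even

open Cfsg.Agent.SplitTwo Cfsg.Agent.SplitTwo.ZS Cfsg.Agent.TitsThree.RankTwoZ Cfsg.Agent.SplitTwo.RootSysZ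
open Cfsg.Agent.KFacts.TwF4 Cfsg.Agent.KFacts.TwF4.Arc Cfsg.Agent.KFacts.TwF4.Irr Cfsg.Agent.KFacts.TwF4.Perf
open Cfsg.Agent.KFacts.TwF4.Inv

variable {F : Type*} [Field F] [Finite F] {σ : F →+* F} {G : Type u} [Group G] [Finite G] (S : Full σ G)

/-- **elements of even order** -/
theorem even_le (hF : ∃ c : Fˣ, c ≠ 1) (hR : S.R.p = 2) (hq : ∃ n, Nat.card F = 2 ^ n) {x : G} (hx : 2 ∣ orderOf x) :
    orderOf x ≤ 16 * ((Nat.card F - 1) * (Nat.card F * Nat.card F + 1)) := by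
  have hfact : Fact (Nat.Prime 2) := ⟨Nat.prime_two⟩
  have h0 : 0 < orderOf x := orderOf_pos x
  obtain ⟨k, m, hm, hkm⟩ := Nat.exists_eq_two_pow_mul_odd h0.ne'
  -- the 2-part
  have h16 : orderOf x ∣ 16 * m := by
    apply orderOf_dvd_of_pow_eq_one
    rw [mul_comm, pow_mul]
    refine TwFTwo.pow_sixteen S (SylU.exists_sylow S hF hR) (k := k) ?_
    rw [← pow_mul, mul_comm m, ← hkm]
    exact pow_orderOf_eq_one x
  -- the involution
  set t := x ^ (orderOf x / 2) with ht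
  have hto : orderOf t = 2 := by
    rw [ht, orderOf_pow_of_dvd (Nat.div_pos (Nat.le_of_dvd h0 hx) (by norm_num)).ne' (Nat.div_dvd_of_dvd hx)]
    exact Nat.div_div_self hx h0.ne'
  have hxC : x ∈ centralizer ({t} : Set G) := by
    rw [mem_centralizer_singleton_iff]
    exact ((Commute.refl x).pow_right _).eq
  have hdvd : m ∣ Nat.card (centralizer ({t} : Set G)) := by
    refine Dvd.dvd.trans ?_ (Subgroup.orderOf_dvd_natCard _ hxC)
    rw [hkm]
    exact Dvd.intro_left _ rfl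
  have hm2 : Nat.Coprime m (Nat.card F) := by
    obtain ⟨n, hn⟩ := hq
    rw [hn]
    exact Nat.Coprime.pow_right _ (Nat.coprime_two_right.2 hm)
  have hq1 : 1 < Nat.card F := Finite.one_lt_card
  have hm3 : m ≤ (Nat.card F - 1) * (Nat.card F * Nat.card F + 1) := by
    rcases H496.TwEight.Card.inv_cases S hF hR hto with ⟨g, u, -, -, h⟩ | ⟨g, s, -, -, h⟩
    · rw [h, H496.TwEight.Card.card_map_conj, H496.TwEight.Card.card_PL' S hF, mul_assoc] at hdvd
      exact Nat.le_of_dvd (Nat.mul_pos (by omega) (by omega)) ((Nat.Coprime.pow_right _ hm2).dvd_of_dvd_mul_left hdvd)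
    · rw [h, H496.TwEight.Card.card_map_conj, H496.TwEight.Card.card_HO' S hF, mul_assoc] at hdvd
      refine (Nat.le_of_dvd (Nat.mul_pos (by omega) (by omega))
        ((Nat.Coprime.pow_right _ hm2).dvd_of_dvd_mul_left hdvd)).trans (Nat.mul_le_mul_left _ ?_)
      nlinarith
  exact (Nat.le_of_dvd (Nat.mul_pos (by norm_num) hm.pos) h16).trans (Nat.mul_le_mul_left _ hm3)

end even

/-! ### the row -/

section row

variable {K : Type u} [Field K] [Fintype K]

theorem orderOf_lt {m : ℕ} (hm : 1 ≤ m) (hK : Fintype.card K = 2 ^ (2 * m + 1)) (x : ↥(twistedF4 K (2 ^ m))) :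
    (2 * m + 1) * orderOf x < Fintype.card K ^ 5 := by
  have hfact : Fact (Nat.Prime 2) := ⟨Nat.prime_two⟩
  have hch : CharP K 2 := charP_of_card_eq_prime_pow hK
  obtain ⟨φ, hφ⟩ := Cfsg.Agent.ChevalleyStructure.TwF4.TwistedFix.exists_rln hK
  set q := Fintype.card K with hq
  have hq4 : 4 ^ m * 2 = q := by rw [hK, pow_succ, pow_mul]; norm_num
  have h4m : ∀ m : ℕ, 1 ≤ m → 3 * m + 1 ≤ 4 ^ m := by
    intro m hm
    induction m, hm using Nat.le_induction with
    | base => norm_num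
    | succ m hm ih => rw [pow_succ]; omega
  have h1 := h4m m hm
  -- `16 (2 m + 1) ≤ q ^ 2`
  have h16 : 16 * (2 * m + 1) ≤ q * q := by
    rw [← hq4]
    nlinarith
  have hq8 : 8 ≤ q := by
    rw [← hq4]
    have : 4 ^ 1 ≤ 4 ^ m := Nat.pow_le_pow_right (by norm_num) hm
    omega
  by_cases hx : 2 ∣ orderOf x
  · have hF : ∃ c : Kˣ, c ≠ 1 := by
      have h2 : Nat.card Kˣ = q - 1 := by rw [Nat.card_units, Nat.card_eq_fintype_card]
      have : Nontrivial Kˣ := Finite.one_lt_card_iff_nontrivial.1 (by omega)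
      exact exists_ne 1
    have h2 := even_le (Cfsg.Agent.KFacts.TwF4.Inst.full hK hφ) hF rfl
      ⟨2 * m + 1, by rw [Nat.card_eq_fintype_card]; exact hK⟩ hx
    rw [Nat.card_eq_fintype_card, ← hq] at h2
    have h3 : (q - 1) * (q * q + 1) < q ^ 3 := by
      obtain ⟨r, hr⟩ : ∃ r, q = r + 1 := ⟨q - 1, by omega⟩
      rw [hr, Nat.add_sub_cancel]
      nlinarith
    calc (2 * m + 1) * orderOf x ≤ (2 * m + 1) * (16 * ((q - 1) * (q * q + 1))) := Nat.mul_le_mul_left _ h2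
      _ = (16 * (2 * m + 1)) * ((q - 1) * (q * q + 1)) := by ring
      _ ≤ (q * q) * ((q - 1) * (q * q + 1)) := Nat.mul_le_mul_right _ h16
      _ < (q * q) * q ^ 3 := Nat.mul_lt_mul_of_pos_left h3 (by positivity)
      _ = q ^ 5 := by ring
  · have h2 := odd_le (K := K) (x := x) (Nat.coprime_two_right.2 (Nat.not_even_iff_odd.1 fun h => hx (even_iff_two_dvd.1 h)))
    rw [← hq] at h2
    -- `(2 m + 1) (q + 1) ^ 4 < q ^ 5`
    have h3 : (8 * (q + 1)) ^ 4 ≤ (9 * q) ^ 4 := Nat.pow_le_pow_left (by omega) 4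
    have h5 : (2 * m + 1) * 6561 < q * 4096 := by
      rw [← hq4]
      omega
    have h6 : (2 * m + 1) * (q + 1) ^ 4 * 4096 < q ^ 5 * 4096 := by
      calc (2 * m + 1) * (q + 1) ^ 4 * 4096 = (2 * m + 1) * (8 * (q + 1)) ^ 4 := by ring
        _ ≤ (2 * m + 1) * (9 * q) ^ 4 := Nat.mul_le_mul_left _ h3
        _ = ((2 * m + 1) * 6561) * q ^ 4 := by ring
        _ < (q * 4096) * q ^ 4 := Nat.mul_lt_mul_of_pos_right h5 (by positivity)
        _ = q ^ 5 * 4096 := by ring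
    have h7 := Nat.lt_of_mul_lt_mul_right h6
    exact (Nat.mul_le_mul_left _ h2).trans_lt h7

/-- automorphisms of `²F₄(q)` have order less than `q ^ 5` -/
theorem mo {m : ℕ} (hm : 1 ≤ m) (hK : Fintype.card K = 2 ^ (2 * m + 1)) :
    Mo ↥(twistedF4 K (2 ^ m)) (Fintype.card K ^ 5 - 1) := by
  have h1 : (MulAut.conj : ↥(twistedF4 K (2 ^ m)) →* MulAut ↥(twistedF4 K (2 ^ m))).range.index = 2 * m + 1 :=
    Cfsg.Agent.S2128.result hm hK
  have hN : (MulAut.conj : ↥(twistedF4 K (2 ^ m)) →* MulAut ↥(twistedF4 K (2 ^ m))).range.Normal := by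
    constructor
    rintro _ ⟨t, rfl⟩ α
    refine ⟨α t, ?_⟩
    ext g
    simp
  refine (mo_of_index (c := 2 * m + 1) (m := (Fintype.card K ^ 5 - 1) / (2 * m + 1)) _ h1.le ?_).mono
    (Nat.mul_div_le _ _)
  rintro _ ⟨t, rfl⟩
  refine (Nat.le_of_dvd (orderOf_pos t) (orderOf_map_dvd _ t)).trans ?_
  rw [Nat.le_div_iff_mul_le (by omega), mul_comm]
  have := orderOf_lt hm hK t
  omega

/-- **`²F₄(q)`, `q ≥ 8`** -/
theorem sm_twF {m : ℕ} (hm : 1 ≤ m) (hK : Fintype.card K = 2 ^ (2 * m + 1)) : Sm ↥(twistedF4 K (2 ^ m)) := by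
  have hfact : Fact (Nat.Prime 2) := ⟨Nat.prime_two⟩
  have hch : CharP K 2 := charP_of_card_eq_prime_pow hK
  obtain ⟨φ, hφ⟩ := Cfsg.Agent.ChevalleyStructure.TwF4.TwistedFix.exists_rln hK
  have hs : IsSimpleGroup ↥(twistedF4 K (2 ^ m)) := (Cfsg.Agent.S1072.result hm hK).1
  have hq : 2 < Fintype.card K := by
    rw [hK]
    calc 2 < 2 ^ 3 := by norm_num
      _ ≤ _ := Nat.pow_le_pow_right (by norm_num) (by omega)
  refine ⟨_, mo hm hK, fun H hH => ?_⟩
  have h1 := Cfsg.Agent.H934.HeisTwF4.main (Cfsg.Agent.KFacts.TwF4.Inst.full hK hφ) hq H hH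
  have h2 : 0 < Fintype.card K ^ 5 := by positivity
  omega

end row

/-- **the row of the groups `²F₄(q)`** -/
theorem sm {T : Type u} [Group T] (h : Iso2F4 T) : Sm T := by
  obtain ⟨K, _, _, m, hm, hK, ⟨e⟩⟩ := h
  exact (sm_twF hm hK).congr e.symm

end Cfsg.Agent.H242.TwoCyc.TwF
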